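import Mathlib
import Cfsg.Agent.Helper9.J2.PChain
import Cfsg.Agent.Helper9.J3.Fast
import Cfsg.Agent.Helper9.He.Data

set_option autoImplicit false

/-!
The seven generators of the Held group as permutations of 2058 points, the group they generate,
words, and the element `(bcde)^7`.
-/

namespace Cfsg.Agent.Helper9.He

open Cfsg.Agent.Helper9.J3 Cfsg.Agent.Helper9.PChain

/-- the degree. -/
abbrev nP : ℕ := 2058

/-- an entry of a table of entries of 12 bits. -/
def lk12 (T i : ℕ) : ℕ := lkF 12 4095 T i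

/-- the table of a letter. -/
def selP (l : ℕ) : ℕ :=
  Nat.rec tabP0 (fun l1 _ => Nat.rec tabP1 (fun l2 _ => Nat.rec tabP2 (fun l3 _ =>
    Nat.rec tabP3 (fun l4 _ => Nat.rec tabP4 (fun l5 _ => Nat.rec tabP5 (fun _ _ => tabP6)
      l5) l4) l3) l2) l1) l

/-- the letters, as the kernel computes them. -/
def tabF (l x : ℕ) : ℕ := lk12 (selP l) x

set_option maxRecDepth 1000000 in
theorem tab_ok_b : allB (fun l => allB (fun x => andB (Nat.ble (tabF l x) 2057)
    (Nat.beq (tabF l (tabF l x)) x)) nP) 7 = true := by decide +kernel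

theorem tab_ok (l x : ℕ) (hl : l < 7) (hx : x < nP) :
    tabF l x < nP ∧ tabF l (tabF l x) = x := by
  have h := andB_true (allB_true (allB_true tab_ok_b hl) hx)
  exact ⟨Nat.lt_succ_of_le (Nat.le_of_ble_eq_true h.1), Nat.eq_of_beq_eq_true h.2⟩

/-- the letters. -/
def tab (l x : ℕ) : ℕ := if l < 7 then tabF l x else x

theorem tab_of_lt {l : ℕ} (hl : l < 7) (x : ℕ) : tab l x = tabF l x := if_pos hl

theorem tab_ge (l x : ℕ) (hl : ¬ l < 7) : tab l x = x := if_neg hl

theorem tab_lt (l x : ℕ) (hx : x < nP) : tab l x < nP := by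
  by_cases hl : l < 7
  · rw [tab_of_lt hl]
    exact (tab_ok l x hl hx).1
  · rw [tab_ge l x hl]
    exact hx

theorem tab_tab (l x : ℕ) (hx : x < nP) : tab l (tab l x) = x := by
  by_cases hl : l < 7
  · rw [tab_of_lt hl, tab_of_lt hl]
    exact (tab_ok l x hl hx).2
  · rw [tab_ge l _ hl, tab_ge l _ hl]

/-- the letters as permutations. -/
def P (l : ℕ) : Equiv.Perm (Fin nP) :=
  mkPerm (tab l) (tab l) (fun x hx => tab_lt l x hx) (fun x hx => tab_lt l x hx)
    (fun x hx => tab_tab l x hx) (fun x hx => tab_tab l x hx)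

theorem P_apply (l : ℕ) (x : Fin nP) : (P l x).val = tab l x.val := rfl

theorem P_mul_self (l : ℕ) : P l * P l = 1 := by
  ext x
  change ((P l) ((P l) x)).val = x.val
  rw [P_apply, P_apply]
  exact tab_tab l x.val x.isLt

theorem P_inv (l : ℕ) : (P l)⁻¹ = P l := inv_eq_of_mul_eq_one_left (P_mul_self l)

theorem P_ge (l : ℕ) (hl : ¬ l < 7) : P l = 1 := by
  ext x
  change (P l x).val = x.val
  rw [P_apply, tab_ge l _ hl]

/-- the group generated by the letters. -/
def HeP : Subgroup (Equiv.Perm (Fin nP)) := Subgroup.closure (Set.range fun l : Fin 7 => P l.val)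

theorem P_mem (l : ℕ) : P l ∈ HeP := by
  by_cases hl : l < 7
  · exact Subgroup.subset_closure ⟨⟨l, hl⟩, rfl⟩
  · rw [P_ge l hl]
    exact HeP.one_mem

/-- the permutation of a word. -/
def permW (w : List ℕ) : Equiv.Perm (Fin nP) := (w.map P).prod

theorem permW_mem (w : List ℕ) : permW w ∈ HeP := by
  apply Subgroup.list_prod_mem
  intro x hx
  obtain ⟨l, -, rfl⟩ := List.mem_map.1 hx
  exact P_mem l

theorem permW_apply (w : List ℕ) (x : Fin nP) : (permW w x).val = evalW tab w x.val :=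
  prod_apply tab P P_apply w x

theorem permW_append (a b : List ℕ) : permW (a ++ b) = permW a * permW b := by
  unfold permW
  rw [List.map_append, List.prod_append]

/-- the action of a word, as the kernel computes it. -/
def evalF (w : List ℕ) (x : ℕ) : ℕ :=
  List.rec (motive := fun _ => ℕ → ℕ) (fun x => x) (fun l _ ih x => sapp (tabF l) (ih x)) w x

theorem evalF_eq (w : List ℕ) (hw : ∀ l ∈ w, l < 7) (x : ℕ) : evalF w x = evalW tab w x := by
  induction w with
  | nil => rfl
  | cons l w ih =>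
    have hl : l < 7 := hw l List.mem_cons_self
    have hw' : ∀ l ∈ w, l < 7 := fun j hj => hw j (List.mem_cons_of_mem _ hj)
    change sapp (tabF l) (evalF w x) = tab l (evalW tab w x)
    rw [sapp_eq, ih hw', tab_of_lt hl]

/-- the word `(bcde)^7`. -/
def wordL : List ℕ := [1, 2, 3, 4, 1, 2, 3, 4, 1, 2, 3, 4, 1, 2, 3, 4, 1, 2, 3, 4, 1, 2, 3, 4, 1, 2, 3, 4]

/-- the table of `(bcde)^7`. -/
def tabL (x : ℕ) : ℕ := lk12 tabLP x

set_option maxRecDepth 1000000 in
theorem tabL_ok_b : allB (fun x => Nat.beq (evalF wordL x) (tabL x)) nP = true := by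
  decide +kernel

/-- the element `(bcde)^7`. -/
def PL : Equiv.Perm (Fin nP) := permW wordL

theorem PL_mem : PL ∈ HeP := permW_mem _

theorem PL_apply (x : Fin nP) : (PL x).val = tabL x.val := by
  unfold PL
  rw [permW_apply, ← evalF_eq wordL (by decide)]
  exact Nat.eq_of_beq_eq_true (allB_true tabL_ok_b x.isLt)

/-- the six generators of the subgroup: the letters `a, c, d, e, f` and `(bcde)^7`. -/
def nG (i : ℕ) : Equiv.Perm (Fin nP) :=
  Nat.rec (P 0) (fun i1 _ => Nat.rec (P 2) (fun i2 _ => Nat.rec (P 3) (fun i3 _ =>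
    Nat.rec (P 4) (fun i4 _ => Nat.rec (P 5) (fun _ _ => PL) i4) i3) i2) i1) i

/-- the tables of the six generators of the subgroup. -/
def nTab (i x : ℕ) : ℕ :=
  Nat.rec (tabF 0 x) (fun i1 _ => Nat.rec (tabF 2 x) (fun i2 _ => Nat.rec (tabF 3 x) (fun i3 _ =>
    Nat.rec (tabF 4 x) (fun i4 _ => Nat.rec (tabF 5 x) (fun _ _ => tabL x) i4) i3) i2) i1) i

theorem nG_apply : ∀ i : Fin 6, ∀ x : Fin nP, (nG i.val x).val = nTab i.val x.val := by
  intro i x
  fin_cases i
  · exact P_apply 0 x
  · exact P_apply 2 x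
  · exact P_apply 3 x
  · exact P_apply 4 x
  · exact P_apply 5 x
  · exact PL_apply x

theorem nG_mem : ∀ i : Fin 6, nG i.val ∈ HeP := by
  intro i
  fin_cases i
  · exact P_mem 0
  · exact P_mem 2
  · exact P_mem 3
  · exact P_mem 4
  · exact P_mem 5
  · exact PL_mem

end Cfsg.Agent.Helper9.He
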