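import Mathlib
import Cfsg.Prelude
import Cfsg.Agent.Helper9.J3C.F4
import Cfsg.Agent.Helper7.SympGeneration

set_option autoImplicit false

/-!
The symplectic group of degree four over the field with four elements: vectors and matrices given
by numbers, the numbering of the 85 points of the projective space, and six matrices that generate
the group.
-/

namespace Cfsg.Agent.Helper9.He

open Cfsg.Agent.Helper9.J3 Cfsg.Agent.Helper9.J3C Cfsg.Agent.Helper9.J3C.F4 Matrix

/-- the field with four elements. -/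
abbrev F : Type := F4

/-- the indices of the coordinates. -/
abbrev I4 : Type := Fin 2 ⊕ Fin 2

/-- the vectors. -/
abbrev V : Type := I4 → F

/-- the symplectic group. -/
abbrev Sp : Type := ↥(Matrix.symplecticGroup (Fin 2) F)

/-- the number of an index. -/
def ix : I4 → ℕ
  | Sum.inl i => i.val
  | Sum.inr i => 2 + i.val

/-- the vector with given coordinates. -/
def vec4 (a b c d : F) : V := Sum.elim ![a, b] ![c, d]

theorem vec4_eta (v : V) : v = vec4 (v (Sum.inl 0)) (v (Sum.inl 1)) (v (Sum.inr 0)) (v (Sum.inr 1)) := by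
  funext i
  rcases i with i | i <;> fin_cases i <;> rfl

theorem vec4_ne_zero {a b c d : F} (h : vec4 a b c d ≠ 0) : a ≠ 0 ∨ b ≠ 0 ∨ c ≠ 0 ∨ d ≠ 0 := by
  by_contra hc
  have ha : a = 0 := by_contra fun h1 => hc (Or.inl h1)
  have hb : b = 0 := by_contra fun h1 => hc (Or.inr (Or.inl h1))
  have hc' : c = 0 := by_contra fun h1 => hc (Or.inr (Or.inr (Or.inl h1)))
  have hd : d = 0 := by_contra fun h1 => hc (Or.inr (Or.inr (Or.inr h1)))
  subst ha hb hc' hd
  apply h
  funext i
  rcases i with i | i <;> fin_cases i <;> rfl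

theorem mulVec_vec4 (M : Matrix I4 I4 F) (a b c d : F) :
    M *ᵥ vec4 a b c d = vec4
      (M (Sum.inl 0) (Sum.inl 0) * a + M (Sum.inl 0) (Sum.inl 1) * b + M (Sum.inl 0) (Sum.inr 0) * c
        + M (Sum.inl 0) (Sum.inr 1) * d)
      (M (Sum.inl 1) (Sum.inl 0) * a + M (Sum.inl 1) (Sum.inl 1) * b + M (Sum.inl 1) (Sum.inr 0) * c
        + M (Sum.inl 1) (Sum.inr 1) * d)
      (M (Sum.inr 0) (Sum.inl 0) * a + M (Sum.inr 0) (Sum.inl 1) * b + M (Sum.inr 0) (Sum.inr 0) * c
        + M (Sum.inr 0) (Sum.inr 1) * d)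
      (M (Sum.inr 1) (Sum.inl 0) * a + M (Sum.inr 1) (Sum.inl 1) * b + M (Sum.inr 1) (Sum.inr 0) * c
        + M (Sum.inr 1) (Sum.inr 1) * d) := by
  funext i
  rcases i with i | i <;> fin_cases i <;>
    simp [Matrix.mulVec, dotProduct, Fintype.sum_sum_type, Fin.sum_univ_two, vec4, add_assoc]

/-- the code of a field element. -/
def cd (x : F) : ℕ := x.val.val

theorem cd_lt (x : F) : cd x < 4 := x.val.isLt

/-- the number of the point of a vector given by codes: the points are numbered in the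
lexicographic order of their vectors with first nonzero coordinate one. -/
def pn (a b c d : ℕ) : ℕ :=
  ifz a (ifz b (ifz c 0 (Nat.add 1 (mulC (invC c) d)))
      (Nat.add 5 (Nat.add (Nat.mul 4 (mulC (invC b) c)) (mulC (invC b) d))))
    (Nat.add 21 (Nat.add (Nat.mul 16 (mulC (invC a) b))
      (Nat.add (Nat.mul 4 (mulC (invC a) c)) (mulC (invC a) d))))

/-- the number of the point of a vector. -/
def pnum (v : V) : ℕ :=
  pn (cd (v (Sum.inl 0))) (cd (v (Sum.inl 1))) (cd (v (Sum.inr 0))) (cd (v (Sum.inr 1)))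

theorem pnum_vec4 (a b c d : F) : pnum (vec4 a b c d) = pn (cd a) (cd b) (cd c) (cd d) := rfl

/-- the first nonzero coordinate. -/
def lead (a b c d : F) : F := if a ≠ 0 then a else if b ≠ 0 then b else if c ≠ 0 then c else d

/-- the vector of a point. -/
def rep (j : ℕ) : V :=
  if 21 ≤ j then vec4 1 (ofNat ((j - 21) / 16)) (ofNat ((j - 21) / 4 % 4)) (ofNat ((j - 21) % 4))
  else if 5 ≤ j then vec4 0 1 (ofNat ((j - 5) / 4)) (ofNat ((j - 5) % 4))
  else if 1 ≤ j then vec4 0 0 1 (ofNat (j - 1))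
  else vec4 0 0 0 1

theorem pn_lt : ∀ a b c d : F, (a ≠ 0 ∨ b ≠ 0 ∨ c ≠ 0 ∨ d ≠ 0) →
    pn (cd a) (cd b) (cd c) (cd d) < 85 := by decide

theorem vec4_eq_lead_rep : ∀ a b c d : F, (a ≠ 0 ∨ b ≠ 0 ∨ c ≠ 0 ∨ d ≠ 0) →
    ∀ i : I4, vec4 a b c d i = lead a b c d * rep (pn (cd a) (cd b) (cd c) (cd d)) i := by decide

theorem lead_ne_zero : ∀ a b c d : F, (a ≠ 0 ∨ b ≠ 0 ∨ c ≠ 0 ∨ d ≠ 0) → lead a b c d ≠ 0 := by
  decide

theorem pnum_rep : ∀ j : Fin 85, pnum (rep j.val) = j.val ∧ rep j.val ≠ 0 := by decide +kernel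

end Cfsg.Agent.Helper9.He
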