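import Mathlib
import Cfsg.Prelude
import Cfsg.Agent.Helper9.He.Sp4a
import Cfsg.Agent.Helper8.SpOrder

set_option autoImplicit false

/-!
Six matrices that generate the symplectic group of degree four over the field with four elements.
-/

namespace Cfsg.Agent.Helper9.He

open Cfsg.Agent.Helper9.J3 Cfsg.Agent.Helper9.J3C Cfsg.Agent.Helper9.J3C.F4 Matrix
open Cfsg.Agent.Helper7.Symp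

/-- the entries of the six matrices. -/
def gMats : List (List (List ℕ)) := [[[1, 0, 0, 0], [0, 0, 0, 3], [0, 0, 1, 0], [0, 2, 0, 0]], [[2, 0, 1, 0], [0, 1, 0, 0], [2, 0, 2, 0], [0, 0, 0, 1]], [[1, 0, 0, 0], [0, 0, 0, 3], [3, 0, 1, 0], [0, 2, 0, 0]], [[0, 0, 2, 0], [0, 0, 0, 3], [3, 0, 0, 0], [0, 2, 0, 0]], [[0, 2, 2, 1], [3, 1, 1, 0], [3, 1, 0, 3], [1, 0, 2, 1]], [[1, 0, 0, 0], [0, 2, 0, 0], [0, 0, 1, 0], [0, 0, 0, 3]]]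

/-- the permutations of the 85 points given by the six matrices. -/
def gPis : List (List ℕ) := [[5, 1, 13, 9, 17, 0, 8, 7, 6, 3, 16, 11, 18, 2, 20, 15, 10, 4, 12, 19, 14, 21, 69, 37, 53, 25, 73, 41, 57, 29, 77, 45, 61, 33, 81, 49, 65, 23, 71, 39, 55, 27, 75, 43, 59, 31, 79, 47, 63, 35, 83, 51, 67, 24, 72, 40, 56, 28, 76, 44, 60, 32, 80, 48, 64, 36, 84, 52, 68, 22, 70, 38, 54, 26, 74, 42, 58, 30, 78, 46, 62, 34, 82, 50, 66],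
  [0, 29, 30, 31, 32, 5, 6, 7, 8, 45, 46, 47, 48, 77, 80, 78, 79, 61, 63, 64, 62, 25, 28, 26, 27, 21, 23, 24, 22, 1, 2, 3, 4, 33, 34, 35, 36, 73, 76, 74, 75, 53, 55, 56, 54, 9, 10, 11, 12, 49, 50, 51, 52, 41, 44, 42, 43, 69, 71, 72, 70, 17, 20, 18, 19, 65, 66, 67, 68, 57, 60, 58, 59, 37, 39, 40, 38, 13, 15, 16, 14, 81, 82, 83, 84],
  [5, 1, 13, 9, 17, 0, 8, 7, 6, 3, 16, 11, 18, 2, 20, 15, 10, 4, 12, 19, 14, 33, 81, 49, 65, 29, 77, 45, 61, 25, 73, 41, 57, 21, 69, 37, 53, 35, 83, 51, 67, 31, 79, 47, 63, 27, 75, 43, 59, 23, 71, 39, 55, 36, 84, 52, 68, 32, 80, 48, 64, 28, 76, 44, 60, 24, 72, 40, 56, 34, 82, 50, 66, 30, 78, 46, 62, 26, 74, 42, 58, 22, 70, 38, 54],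
  [5, 21, 53, 69, 37, 0, 8, 7, 6, 22, 54, 70, 38, 24, 40, 56, 72, 23, 71, 39, 55, 1, 9, 17, 13, 29, 61, 77, 45, 25, 41, 57, 73, 33, 81, 49, 65, 4, 12, 19, 14, 30, 62, 78, 46, 28, 44, 60, 76, 35, 83, 51, 67, 2, 10, 20, 15, 31, 63, 79, 47, 26, 42, 58, 74, 36, 84, 52, 68, 3, 11, 18, 16, 32, 64, 80, 48, 27, 43, 59, 75, 34, 82, 50, 66],
  [34, 70, 58, 9, 46, 81, 67, 7, 52, 3, 32, 21, 27, 76, 20, 39, 61, 79, 41, 56, 14, 11, 69, 59, 48, 47, 72, 12, 57, 60, 71, 45, 10, 33, 0, 36, 35, 44, 77, 15, 55, 18, 75, 64, 37, 31, 4, 25, 24, 65, 84, 51, 8, 63, 73, 40, 19, 28, 2, 23, 29, 16, 80, 53, 43, 49, 83, 6, 68, 22, 1, 30, 26, 54, 78, 42, 13, 38, 74, 17, 62, 5, 82, 66, 50],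
  [0, 1, 4, 2, 3, 5, 7, 8, 6, 17, 19, 20, 18, 9, 11, 12, 10, 13, 15, 16, 14, 21, 24, 22, 23, 25, 28, 26, 27, 29, 32, 30, 31, 33, 36, 34, 35, 53, 56, 54, 55, 57, 60, 58, 59, 61, 64, 62, 63, 65, 68, 66, 67, 69, 72, 70, 71, 73, 76, 74, 75, 77, 80, 78, 79, 81, 84, 82, 83, 37, 40, 38, 39, 41, 44, 42, 43, 45, 48, 46, 47, 49, 52, 50, 51]]

/-- for each nonzero vector, a word in the six matrices that carries the first basis vector to it. -/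
def gWords : List (List ℕ) := [[],
  [],
  [1, 2, 3, 1],
  [3, 1, 2, 1],
  [4, 5, 2, 4, 5, 3, 2, 4, 1],
  [4, 5, 3, 2, 4, 2, 3, 2, 1],
  [5, 4, 3, 5, 2, 4, 1],
  [4, 3, 5, 2, 4, 2, 3, 1],
  [4, 2, 5, 4, 3, 5, 2, 4, 3, 1],
  [4, 3, 5, 2, 4, 3, 2, 1],
  [4, 5, 3, 2, 4, 2, 1],
  [3, 5, 4, 2, 5, 4, 3, 1],
  [4, 5, 2, 4, 5, 3, 2, 4, 3, 2, 1],
  [5, 4, 3, 5, 2, 4, 3, 2, 1],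
  [4, 3, 5, 2, 4, 1],
  [4, 5, 3, 2, 4, 3, 1],
  [1, 2, 3, 2, 1],
  [3, 2, 1],
  [2, 1, 2, 3, 1],
  [3, 1],
  [5, 4, 2, 5, 4, 1],
  [5, 2, 4, 5, 1, 2, 4, 1],
  [5, 2, 4, 5, 3, 2, 4, 1],
  [4, 5, 1, 2, 4, 2, 3, 2, 1],
  [4, 5, 2, 4, 2, 1],
  [2, 4, 1, 2, 5, 4, 2, 1],
  [2, 4, 3, 5, 2, 4, 2, 1],
  [4, 1, 2, 5, 4, 3, 2, 1],
  [4, 2, 5, 4, 1],
  [2, 4, 5, 1, 2, 4, 1],
  [2, 4, 5, 3, 2, 4, 1],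
  [2, 4, 5, 3, 1, 2, 4, 1],
  [1, 2, 1],
  [2, 3, 2, 1],
  [1],
  [2, 3, 1, 2, 1],
  [4, 2, 5, 4, 2, 3, 1],
  [5, 4, 1, 2, 5, 4, 1],
  [2, 4, 5, 1, 2, 4, 2, 3, 1],
  [2, 4, 5, 3, 2, 4, 2, 3, 1],
  [5, 4, 2, 5, 4, 2, 3, 1],
  [4, 5, 1, 2, 4, 2, 1],
  [4, 3, 5, 1, 2, 4, 3, 2, 1],
  [2, 5, 4, 3, 5, 2, 4, 3, 1],
  [4, 5, 2, 4, 3, 1],
  [4, 1, 2, 5, 4, 1],
  [2, 4, 1, 2, 5, 4, 3, 1],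
  [2, 4, 3, 5, 2, 4, 3, 1],
  [3],
  [2],
  [2, 1],
  [2, 3, 1],
  [4, 5, 2, 4, 2, 3, 2, 1],
  [2, 4, 3, 5, 2, 4, 2, 3, 2, 1],
  [4, 1, 2, 5, 4, 2, 3, 1],
  [5, 4, 3, 5, 1, 2, 4, 1],
  [4, 2, 5, 4, 3, 2, 1],
  [2, 4, 5, 3, 2, 4, 3, 2, 1],
  [3, 2, 4, 5, 1, 2, 4, 2, 1],
  [4, 5, 3, 1, 2, 4, 2, 1],
  [5, 4, 2, 5, 4, 3, 2, 1],
  [5, 2, 4, 5, 3, 2, 4, 3, 2, 1],
  [4, 5, 1, 2, 4, 3, 1],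
  [4, 3, 5, 1, 2, 4, 1],
  [5, 4, 2, 5, 4, 3, 5, 2, 4, 1],
  [3, 5, 4, 2, 5, 4, 3, 2, 1],
  [4, 5, 3, 2, 4, 1],
  [4, 3, 5, 2, 4, 3, 1],
  [4, 2, 5, 4, 1, 2, 1],
  [1, 2, 5, 4, 3, 2, 1],
  [3, 5, 1, 2, 4, 2, 1],
  [0, 5, 4, 1, 2, 1],
  [4, 5, 2, 4, 1, 2, 3, 2, 1],
  [5, 3, 1, 2, 4, 2, 3, 2, 1],
  [5, 4, 1, 2, 3, 2, 1],
  [5, 1, 2, 4, 2, 3, 1],
  [5, 4, 2, 5, 4, 3],
  [4, 3],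
  [1, 2, 4, 1],
  [3, 1, 2, 4, 3, 1],
  [4, 5, 2, 4, 1],
  [2, 4, 1, 2, 5, 4, 1],
  [2, 4, 3, 5, 2, 4, 1],
  [2, 4, 3, 5, 1, 2, 4, 1],
  [1, 2, 5, 4, 2, 1],
  [0, 5, 4, 2, 1],
  [2, 5, 3, 1, 2, 4, 2, 1],
  [3, 5, 2, 4, 3, 2, 1],
  [5, 4, 1, 2, 3, 1],
  [5, 2, 4, 2, 3, 1],
  [5, 2, 4, 1, 2, 3, 2, 1],
  [5, 2, 4, 2, 3, 2, 1],
  [3, 1, 2, 4, 1],
  [3, 2, 4, 3, 1],
  [2, 1, 2, 4, 1],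
  [4, 1],
  [4, 2, 5, 4, 3, 1],
  [4, 5, 1, 2, 4, 1],
  [2, 4, 5, 1, 2, 4, 3, 1],
  [2, 4, 5, 3, 2, 4, 3, 1],
  [3, 5, 4, 1, 2, 1],
  [2, 5, 4, 2, 1],
  [2, 5, 4, 3, 2, 1],
  [2, 5, 4, 1, 2, 1],
  [5, 3, 1, 2, 4, 2, 3, 1],
  [5, 4, 2, 3, 1],
  [5, 3, 2, 4, 2, 3, 2, 1],
  [5, 2, 1, 2, 4, 2, 3, 1],
  [1, 2, 4, 3, 1],
  [3, 2, 4, 1],
  [4, 3, 1],
  [2, 3, 1, 2, 4, 3, 1],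
  [5, 4, 2, 5, 4, 2, 3, 2, 1],
  [2, 5, 4, 3, 5, 2, 4, 3, 2, 1],
  [4, 1, 2, 5, 4, 3, 1],
  [4, 5, 3, 1, 2, 4, 1],
  [3, 5, 1, 2, 4, 3, 2, 1],
  [2, 5, 1, 2, 4, 3, 2, 1],
  [3, 5, 4, 2, 1],
  [3, 5, 2, 4, 2, 1],
  [5, 1, 2, 4, 2, 3, 2, 1],
  [4, 5, 2, 1, 2, 4, 2, 3, 1],
  [5, 3, 2, 4, 2, 3, 1],
  [5, 4, 2, 3, 2, 1],
  [4],
  [2, 4, 3],
  [2, 4, 3, 1],
  [2, 4, 1],
  [4, 2, 5, 4, 3, 5, 2, 4, 1],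
  [4, 3, 5, 2, 4, 2, 3, 2, 1],
  [3, 5, 4, 2, 5, 4, 1],
  [4, 5, 3, 2, 4, 2, 3, 1],
  [5, 4, 2, 5, 4, 1, 2, 3, 2, 1],
  [3, 1, 2, 4, 2, 3, 2, 1],
  [4, 1, 2, 3, 2, 1],
  [1, 2, 4, 2, 3, 1],
  [4, 2, 5, 4, 3],
  [3, 5, 4],
  [1, 2, 5, 4, 1],
  [3, 5, 1, 2, 4, 3, 1],
  [4, 5, 2, 4, 1, 2, 1],
  [5, 1, 2, 4, 3, 2, 1],
  [5, 3, 1, 2, 4, 2, 1],
  [5, 4, 1, 2, 1],
  [5, 4, 2, 5, 4, 2, 1],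
  [2, 5, 4, 1, 2, 5, 4, 1],
  [2, 5, 4, 3, 5, 2, 4, 1],
  [4, 1, 2, 5, 4, 2, 3, 2, 1],
  [4, 1, 2, 3, 1],
  [2, 4, 2, 3, 1],
  [2, 4, 1, 2, 3, 2, 1],
  [2, 4, 2, 3, 2, 1],
  [3, 5, 1, 2, 4, 1],
  [3, 5, 2, 4, 3, 1],
  [2, 5, 1, 2, 4, 1],
  [0, 5, 4, 1],
  [5, 1, 2, 4, 2, 1],
  [5, 4, 2, 1],
  [5, 2, 3, 1, 2, 4, 2, 1],
  [5, 3, 2, 4, 3, 2, 1],
  [4, 5, 2, 4, 2, 3, 1],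
  [5, 4, 1, 2, 5, 4, 2, 1],
  [2, 4, 1, 2, 5, 4, 2, 3, 1],
  [2, 4, 3, 5, 2, 4, 2, 3, 1],
  [3, 1, 2, 4, 2, 3, 1],
  [4, 2, 3, 1],
  [3, 2, 4, 2, 3, 2, 1],
  [2, 1, 2, 4, 2, 3, 1],
  [1, 2, 5, 4, 3, 1],
  [3, 5, 2, 4, 1],
  [3, 5, 4, 1],
  [4, 2, 5, 1, 2, 4, 1],
  [5, 4, 3, 1, 2, 1],
  [5, 2, 4, 2, 1],
  [5, 2, 4, 3, 2, 1],
  [5, 2, 4, 1, 2, 1],
  [4, 2, 5, 4, 2, 3, 2, 1],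
  [2, 4, 5, 3, 2, 4, 2, 3, 2, 1],
  [4, 5, 1, 2, 4, 2, 3, 1],
  [3, 5, 4, 1, 2, 5, 4, 1],
  [1, 2, 4, 2, 3, 2, 1],
  [2, 3, 1, 2, 4, 2, 3, 2, 1],
  [3, 2, 4, 2, 3, 1],
  [4, 2, 3, 2, 1],
  [0, 5, 4],
  [2, 5, 4, 3],
  [2, 5, 4, 3, 1],
  [2, 5, 4, 1],
  [5, 3, 1, 2, 4, 3, 2, 1],
  [5, 2, 1, 2, 4, 3, 2, 1],
  [5, 4, 3, 2, 1],
  [5, 3, 2, 4, 2, 1],
  [4, 5, 2, 4, 5, 3, 2, 4, 3, 1],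
  [4, 5, 3, 2, 4, 3, 2, 1],
  [4, 3, 5, 2, 4, 2, 1],
  [5, 4, 3, 5, 2, 4, 3, 1],
  [4, 5, 2, 4, 3],
  [5, 4, 3],
  [5, 1, 2, 4, 1],
  [5, 3, 1, 2, 4, 3, 1],
  [5, 4, 2, 5, 4, 1, 2, 1],
  [1, 2, 4, 3, 2, 1],
  [3, 1, 2, 4, 2, 1],
  [4, 1, 2, 1],
  [4, 2, 5, 4, 1, 2, 3, 2, 1],
  [3, 5, 1, 2, 4, 2, 3, 2, 1],
  [3, 5, 4, 1, 2, 3, 1],
  [1, 2, 5, 4, 2, 3, 1],
  [4, 2, 5, 4, 2, 1],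
  [2, 4, 5, 1, 2, 4, 2, 1],
  [2, 4, 5, 3, 2, 4, 2, 1],
  [4, 5, 1, 2, 4, 3, 2, 1],
  [5, 3, 1, 2, 4, 1],
  [5, 3, 2, 4, 3, 1],
  [5, 2, 1, 2, 4, 1],
  [5, 4, 1],
  [1, 2, 4, 2, 1],
  [4, 2, 1],
  [2, 3, 1, 2, 4, 2, 1],
  [3, 2, 4, 3, 2, 1],
  [0, 5, 4, 1, 2, 3, 1],
  [2, 5, 4, 2, 3, 1],
  [2, 5, 4, 1, 2, 3, 2, 1],
  [2, 5, 4, 2, 3, 2, 1],
  [5, 4, 2, 5, 4, 3, 1],
  [4, 1, 2, 5, 4, 2, 1],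
  [4, 5, 3, 1, 2, 4, 3, 2, 1],
  [5, 2, 4, 5, 3, 2, 4, 3, 1],
  [5, 1, 2, 4, 3, 1],
  [5, 3, 2, 4, 1],
  [5, 4, 3, 1],
  [4, 5, 2, 1, 2, 4, 1],
  [4, 3, 1, 2, 1],
  [2, 4, 2, 1],
  [2, 4, 3, 2, 1],
  [2, 4, 1, 2, 1],
  [3, 5, 1, 2, 4, 2, 3, 1],
  [0, 5, 4, 2, 3, 1],
  [3, 5, 2, 4, 2, 3, 2, 1],
  [2, 5, 1, 2, 4, 2, 3, 1],
  [4, 5, 2, 4, 3, 2, 1],
  [2, 4, 3, 5, 2, 4, 3, 2, 1],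
  [5, 4, 1, 2, 5, 4, 3, 1],
  [4, 3, 5, 1, 2, 4, 2, 1],
  [5, 4],
  [5, 2, 4, 3],
  [5, 2, 4, 3, 1],
  [5, 2, 4, 1],
  [3, 1, 2, 4, 3, 2, 1],
  [2, 1, 2, 4, 3, 2, 1],
  [4, 3, 2, 1],
  [3, 2, 4, 2, 1],
  [1, 2, 5, 4, 2, 3, 2, 1],
  [4, 2, 5, 1, 2, 4, 2, 3, 1],
  [3, 5, 2, 4, 2, 3, 1],
  [3, 5, 4, 2, 3, 1]]

/-- words for the three transvections of the first basis vector. -/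
def tWords : List (List ℕ) := [[2, 1, 2], [0, 2, 3, 2], [0, 2, 1, 3, 2]]

/-- the matrix with given entries. -/
def matOf (l : List (List ℕ)) : Matrix I4 I4 F :=
  fun i j => ofNat ((l.getD (ix i) []).getD (ix j) 0)

/-- the six matrices. -/
def gMat (i : ℕ) : Matrix I4 I4 F := matOf (gMats.getD i [])

theorem gMat_mem : ∀ i : Fin 6, gMat i.val ∈ Matrix.symplecticGroup (Fin 2) F := by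
  intro i
  rw [SymplecticGroup.mem_iff]
  revert i
  decide

/-- the six matrices as elements of the group. -/
def gSp (i : ℕ) : Sp := if h : i < 6 then ⟨gMat i, gMat_mem ⟨i, h⟩⟩ else 1

theorem gSp_coe {i : ℕ} (h : i < 6) : (gSp i : Matrix I4 I4 F) = gMat i := by
  unfold gSp
  rw [dif_pos h]

/-- the action of a matrix on coordinates. -/
def act4 (M : Matrix I4 I4 F) (a b c d : F) : V := vec4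
      (M (Sum.inl 0) (Sum.inl 0) * a + M (Sum.inl 0) (Sum.inl 1) * b + M (Sum.inl 0) (Sum.inr 0) * c
        + M (Sum.inl 0) (Sum.inr 1) * d)
      (M (Sum.inl 1) (Sum.inl 0) * a + M (Sum.inl 1) (Sum.inl 1) * b + M (Sum.inl 1) (Sum.inr 0) * c
        + M (Sum.inl 1) (Sum.inr 1) * d)
      (M (Sum.inr 0) (Sum.inl 0) * a + M (Sum.inr 0) (Sum.inl 1) * b + M (Sum.inr 0) (Sum.inr 0) * c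
        + M (Sum.inr 0) (Sum.inr 1) * d)
      (M (Sum.inr 1) (Sum.inl 0) * a + M (Sum.inr 1) (Sum.inl 1) * b + M (Sum.inr 1) (Sum.inr 0) * c
        + M (Sum.inr 1) (Sum.inr 1) * d)

theorem mulVec_eq_act4 (M : Matrix I4 I4 F) (v : V) :
    M *ᵥ v = act4 M (v (Sum.inl 0)) (v (Sum.inl 1)) (v (Sum.inr 0)) (v (Sum.inr 1)) := by
  conv_lhs => rw [vec4_eta v]
  exact mulVec_vec4 M _ _ _ _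

/-- the action of the matrices on the points agrees with the tables. -/
theorem gMat_pnum : ∀ i : Fin 6, ∀ a b c d : F, (a ≠ 0 ∨ b ≠ 0 ∨ c ≠ 0 ∨ d ≠ 0) →
    pnum (act4 (gMat i.val) a b c d) = (gPis.getD i.val []).getD (pn (cd a) (cd b) (cd c) (cd d)) 0 ∧
      act4 (gMat i.val) a b c d ≠ 0 := by
  decide +kernel

end Cfsg.Agent.Helper9.He
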