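import Mathlib
import Cfsg.Prelude
import Cfsg.Agent.Helper9.He.Sp4b

set_option autoImplicit false

/-!
The six matrices generate the symplectic group of degree four over the field with four elements,
which has 979200 elements; an element fixing all the points is the identity.
-/

namespace Cfsg.Agent.Helper9.He

open Cfsg.Agent.Helper9.J3 Cfsg.Agent.Helper9.J3C Cfsg.Agent.Helper9.J3C.F4 Matrix
open Cfsg.Agent.Helper7.Symp

/-- the product of a word. -/
def wSp (w : List ℕ) : Sp := (w.map gSp).prod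

/-- the action of a word on a vector, computed on coordinates. -/
def wAct : List ℕ → V → V
  | [], v => v
  | i :: w, v => act4 (gMat i) (wAct w v (Sum.inl 0)) (wAct w v (Sum.inl 1)) (wAct w v (Sum.inr 0))
      (wAct w v (Sum.inr 1))

theorem wSp_mulVec : ∀ (w : List ℕ), (∀ i ∈ w, i < 6) → ∀ v : V,
    (wSp w : Matrix I4 I4 F) *ᵥ v = wAct w v
  | [], _, v => by
    change (1 : Matrix I4 I4 F) *ᵥ v = v
    rw [Matrix.one_mulVec]
  | i :: w, h, v => by
    have hi : i < 6 := h i List.mem_cons_self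
    have hw : ∀ j ∈ w, j < 6 := fun j hj => h j (List.mem_cons_of_mem _ hj)
    have e : wSp (i :: w) = gSp i * wSp w := by
      unfold wSp
      rw [List.map_cons, List.prod_cons]
    rw [e, coe_mul_mulVec, wSp_mulVec w hw v, gSp_coe hi, mulVec_eq_act4]
    rfl

/-- the group generated by the six matrices. -/
def C6 : Subgroup Sp := Subgroup.closure (Set.range fun i : Fin 6 => gSp i.val)

theorem gSp_mem (i : ℕ) : gSp i ∈ C6 := by
  by_cases h : i < 6
  · exact Subgroup.subset_closure ⟨⟨i, h⟩, rfl⟩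
  · unfold gSp
    rw [dif_neg h]
    exact C6.one_mem

theorem wSp_mem (w : List ℕ) : wSp w ∈ C6 := by
  apply Subgroup.list_prod_mem
  intro x hx
  obtain ⟨i, -, rfl⟩ := List.mem_map.1 hx
  exact gSp_mem i

/-- the vector with a given code. -/
def vecC (k : ℕ) : V := vec4 (ofNat k) (ofNat (k / 4)) (ofNat (k / 16)) (ofNat (k / 64))

/-- the first basis vector. -/
abbrev e1 : V := vecC 1

theorem words_ok : ∀ k : Fin 256, k.val ≠ 0 →
    ((gWords.getD k.val []).all fun i => decide (i < 6)) = true ∧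
      wAct (gWords.getD k.val []) e1 = vecC k.val := by
  decide +kernel

theorem vec4_eq_vecC : ∀ a b c d : F,
    vec4 a b c d = vecC (cd a + 4 * cd b + 16 * cd c + 64 * cd d) ∧
      ((a ≠ 0 ∨ b ≠ 0 ∨ c ≠ 0 ∨ d ≠ 0) → cd a + 4 * cd b + 16 * cd c + 64 * cd d ≠ 0) := by
  decide +kernel

/-- the group generated by the six matrices is transitive on the nonzero vectors. -/
theorem exists_mem_C6 (v : V) (hv : v ≠ 0) : ∃ g ∈ C6, (g : Matrix I4 I4 F) *ᵥ e1 = v := by
  rw [vec4_eta v] at hv ⊢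
  obtain ⟨h1, h2⟩ := vec4_eq_vecC (v (Sum.inl 0)) (v (Sum.inl 1)) (v (Sum.inr 0)) (v (Sum.inr 1))
  have h3 := h2 (vec4_ne_zero hv)
  have hlt : cd (v (Sum.inl 0)) + 4 * cd (v (Sum.inl 1)) + 16 * cd (v (Sum.inr 0)) +
      64 * cd (v (Sum.inr 1)) < 256 := by
    have := cd_lt (v (Sum.inl 0))
    have := cd_lt (v (Sum.inl 1))
    have := cd_lt (v (Sum.inr 0))
    have := cd_lt (v (Sum.inr 1))
    omega
  generalize cd (v (Sum.inl 0)) + 4 * cd (v (Sum.inl 1)) + 16 * cd (v (Sum.inr 0)) +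
      64 * cd (v (Sum.inr 1)) = k at h1 h3 hlt
  obtain ⟨h4, h5⟩ := words_ok ⟨k, hlt⟩ h3
  refine ⟨wSp (gWords.getD k []), wSp_mem _, ?_⟩
  rw [wSp_mulVec _ (fun i hi => of_decide_eq_true (List.all_eq_true.1 h4 i hi)), h5, h1]


theorem sp_ext {A B : Sp} (h : ∀ x : V, (A : Matrix I4 I4 F) *ᵥ x = (B : Matrix I4 I4 F) *ᵥ x) :
    A = B := by
  apply Subtype.ext
  ext i j
  have := congrFun (h (Pi.single j 1)) i
  rw [mulVec_single_one, mulVec_single_one] at this
  exact this

theorem sympForm_e1 (a b c d : F) : Cfsg.sympForm 2 F (vec4 a b c d) e1 = c := by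
  unfold Cfsg.sympForm
  simp [dotProduct, Matrix.mulVec, Matrix.J, Fintype.sum_sum_type, Fin.sum_univ_two, vec4, vecC,
    Matrix.fromBlocks, F4.ofNat_one, F4.ofNat_zero]

theorem tw_ok : ∀ t : Fin 3, ((tWords.getD t.val []).all fun i => decide (i < 6)) = true ∧
    ∀ a b c d : F, wAct (tWords.getD t.val []) (vec4 a b c d) =
      vec4 a b c d + (ofNat (t.val + 1) * c) • e1 := by
  decide +kernel

theorem ofNat_cases (c : F) : c = 0 ∨ ∃ t : Fin 3, c = ofNat (t.val + 1) := by
  revert c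
  decide

theorem T_e1_mem (c : F) : T e1 c ∈ C6 := by
  rcases ofNat_cases c with rfl | ⟨t, rfl⟩
  · have : T e1 (0 : F) = 1 := by
      apply sp_ext
      intro x
      rw [T_mulVec, zero_mul, zero_smul, add_zero]
      change x = (1 : Matrix I4 I4 F) *ᵥ x
      rw [Matrix.one_mulVec]
    rw [this]
    exact C6.one_mem
  · obtain ⟨h1, h2⟩ := tw_ok t
    have : T e1 (ofNat (t.val + 1)) = wSp (tWords.getD t.val []) := by
      apply sp_ext
      intro x
      rw [T_mulVec, wSp_mulVec _ (fun i hi => of_decide_eq_true (List.all_eq_true.1 h1 i hi)),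
        vec4_eta x, h2, sympForm_e1]
    rw [this]
    exact wSp_mem _

theorem inv_mulVec_mulVec (g : Sp) (x : V) :
    ((g⁻¹ : Sp) : Matrix I4 I4 F) *ᵥ ((g : Matrix I4 I4 F) *ᵥ x) = x := by
  rw [← coe_mul_mulVec, inv_mul_cancel]
  change (1 : Matrix I4 I4 F) *ᵥ x = x
  rw [Matrix.one_mulVec]

theorem mulVec_inv_mulVec (g : Sp) (x : V) :
    (g : Matrix I4 I4 F) *ᵥ (((g⁻¹ : Sp) : Matrix I4 I4 F) *ᵥ x) = x := by
  rw [← coe_mul_mulVec, mul_inv_cancel]
  change (1 : Matrix I4 I4 F) *ᵥ x = x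
  rw [Matrix.one_mulVec]

theorem T_mem_C6 (w : V) (c : F) : T w c ∈ C6 := by
  by_cases hw : w = 0
  · have : T w c = 1 := by
      apply sp_ext
      intro x
      rw [T_mulVec, hw, smul_zero, add_zero]
      change x = (1 : Matrix I4 I4 F) *ᵥ x
      rw [Matrix.one_mulVec]
    rw [this]
    exact C6.one_mem
  · obtain ⟨g, hg, e⟩ := exists_mem_C6 w hw
    have : T w c = g * T e1 c * g⁻¹ := by
      apply sp_ext
      intro x
      rw [coe_mul_mulVec, coe_mul_mulVec, T_mulVec, T_mulVec, Matrix.mulVec_add, Matrix.mulVec_smul,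
        mulVec_inv_mulVec, e]
      congr 3
      have h := sympForm_mulVec g (((g⁻¹ : Sp) : Matrix I4 I4 F) *ᵥ x) e1
      rw [mulVec_inv_mulVec, e] at h
      exact h
    rw [this]
    exact C6.mul_mem (C6.mul_mem hg (T_e1_mem c)) (C6.inv_mem hg)

/-- the six matrices generate the symplectic group. -/
theorem C6_eq_top : C6 = ⊤ := by
  rw [eq_top_iff, ← transvectionSubgroup_eq_top 2 F]
  unfold transvectionSubgroup
  rw [Subgroup.closure_le]
  rintro A ⟨w, c, hA⟩
  have : A = T w c := Subtype.ext hA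
  rw [this]
  exact T_mem_C6 w c

/-- the symplectic group has 979200 elements. -/
theorem card_Sp : Nat.card Sp = 979200 := by
  have h := Cfsg.Agent.Helper8.SpOrder.card_symp (F := F) 2
  rw [h, F4.card_eq]
  decide

end Cfsg.Agent.Helper9.He
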