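import Mathlib
import Cfsg.Prelude
import Cfsg.Agent.Helper9.He.Sp4c

set_option autoImplicit false

/-!
An element of the symplectic group that fixes all the points of the projective space is the
identity.
-/

namespace Cfsg.Agent.Helper9.He

open Cfsg.Agent.Helper9.J3 Cfsg.Agent.Helper9.J3C Cfsg.Agent.Helper9.J3C.F4 Matrix
open Cfsg.Agent.Helper7.Symp

theorem pnum_lt {v : V} (hv : v ≠ 0) : pnum v < 85 := by
  rw [vec4_eta v] at hv
  exact pn_lt _ _ _ _ (vec4_ne_zero hv)

/-- vectors with the same point are proportional. -/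
theorem smul_of_pnum_eq {u v : V} (hu : u ≠ 0) (hv : v ≠ 0) (h : pnum u = pnum v) :
    ∃ s : F, u = s • v := by
  have hu' := hu
  have hv' := hv
  rw [vec4_eta u] at hu'
  rw [vec4_eta v] at hv'
  have h1 := vec4_eq_lead_rep _ _ _ _ (vec4_ne_zero hu')
  have h2 := vec4_eq_lead_rep _ _ _ _ (vec4_ne_zero hv')
  have h3 := lead_ne_zero _ _ _ _ (vec4_ne_zero hv')
  rw [← vec4_eta u] at h1
  rw [← vec4_eta v] at h2
  change ∀ i, u i = _ * rep (pnum u) i at h1
  change ∀ i, v i = _ * rep (pnum v) i at h2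
  refine ⟨lead (u (Sum.inl 0)) (u (Sum.inl 1)) (u (Sum.inr 0)) (u (Sum.inr 1)) *
    (lead (v (Sum.inl 0)) (v (Sum.inl 1)) (v (Sum.inr 0)) (v (Sum.inr 1)))⁻¹, ?_⟩
  funext i
  rw [Pi.smul_apply, smul_eq_mul, h1 i, h2 i, h, mul_assoc, ← mul_assoc _⁻¹, inv_mul_cancel₀ h3,
    one_mul]

theorem mulVec_ne_zero (m : Sp) {v : V} (hv : v ≠ 0) : (m : Matrix I4 I4 F) *ᵥ v ≠ 0 := by
  intro h
  apply hv
  have := inv_mulVec_mulVec m v
  rw [h, Matrix.mulVec_zero] at this
  exact this.symm

theorem sq_eq_one : ∀ t : F, t * t = 1 → t = 1 := by decide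

theorem sympForm_basis : Cfsg.sympForm 2 F (Pi.single (Sum.inl 0) 1) (Pi.single (Sum.inr 0) 1) ≠ 0 := by
  decide

/-- an element of the symplectic group that fixes all the points is the identity. -/
theorem eq_one_of_pnum (m : Sp)
    (h : ∀ v : V, v ≠ 0 → pnum ((m : Matrix I4 I4 F) *ᵥ v) = pnum v) : m = 1 := by
  have key : ∀ v : V, v ≠ 0 → ∃ s : F, (m : Matrix I4 I4 F) *ᵥ v = s • v :=
    fun v hv => smul_of_pnum_eq (mulVec_ne_zero m hv) hv (h v hv)
  have hsingle : ∀ j : I4, (Pi.single j (1 : F) : V) ≠ 0 := by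
    intro j hj
    have := congrFun hj j
    rw [Pi.single_eq_same] at this
    exact one_ne_zero this
  have hcol : ∀ j : I4, ∃ s : F, (m : Matrix I4 I4 F) *ᵥ Pi.single j 1 = s • Pi.single j 1 :=
    fun j => key _ (hsingle j)
  choose t ht using hcol
  have heq : ∀ j k : I4, j ≠ k → t j = t k := by
    intro j k hjk
    have hne : (Pi.single j (1 : F) + Pi.single k 1 : V) ≠ 0 := by
      intro h0
      have := congrFun h0 j
      rw [Pi.add_apply, Pi.single_eq_same, Pi.single_eq_of_ne hjk, add_zero] at this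
      exact one_ne_zero this
    obtain ⟨s, hs⟩ := key _ hne
    rw [Matrix.mulVec_add, ht j, ht k] at hs
    have hj := congrFun hs j
    have hk := congrFun hs k
    simp only [Pi.add_apply, Pi.smul_apply, Pi.single_eq_same, Pi.single_eq_of_ne hjk,
      Pi.single_eq_of_ne hjk.symm, smul_eq_mul, mul_one, mul_zero, add_zero, zero_add] at hj hk
    rw [hj, hk]
  have hall : ∀ j : I4, t j = t (Sum.inl 0) := by
    intro j
    by_cases hj : j = Sum.inl 0
    · rw [hj]
    · exact heq j _ hj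
  have hact : ∀ x : V, (m : Matrix I4 I4 F) *ᵥ x = t (Sum.inl 0) • x := by
    intro x
    have hx : x = ∑ j : I4, x j • (Pi.single j (1 : F) : V) := by
      funext i
      rw [Finset.sum_apply]
      simp [Pi.single_apply]
    rw [hx, Matrix.mulVec_sum, Finset.smul_sum]
    apply Finset.sum_congr rfl
    intro j _
    rw [Matrix.mulVec_smul, ht j, hall j, smul_comm]
  have hsq : t (Sum.inl 0) * t (Sum.inl 0) = 1 := by
    have h1 := sympForm_mulVec m (Pi.single (Sum.inl 0) 1) (Pi.single (Sum.inr 0) 1)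
    rw [hact, hact, sympForm_smul_left, sympForm_smul_right, ← mul_assoc] at h1
    exact mul_right_cancel₀ sympForm_basis (by rw [h1, one_mul])
  have h1 := sq_eq_one _ hsq
  apply sp_ext
  intro x
  rw [hact, h1, one_smul]
  change x = (1 : Matrix I4 I4 F) *ᵥ x
  rw [Matrix.one_mulVec]

end Cfsg.Agent.Helper9.He
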