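import Mathlib
import Cfsg.Agent.Helper9.He.Perms
import Cfsg.Agent.Helper9.He.Sp4d

set_option autoImplicit false

/-!
The sets of points of the projective space attached to the 2058 points are permuted by the six
generators of the subgroup as by the six matrices; they are different; every point of the space
is attached to a flag.
-/

namespace Cfsg.Agent.Helper9.He

open Cfsg.Agent.Helper9.J3 Cfsg.Agent.Helper9.J3C Cfsg.Agent.Helper9.J3C.F4 Matrix

/-- an entry of a table of sets of points. -/
def lkY (T x : ℕ) : ℕ := lkF 85 38685626227668133590597631 T x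

theorem lkY_lt (T x : ℕ) : lkY T x < 2 ^ 85 := lkF_lt 85 T x

/-- an entry of a table of entries of 7 bits. -/
def lk7 (T j : ℕ) : ℕ := lkF 7 127 T j

/-- the permutation of the points of a matrix. -/
def selPi (i : ℕ) : ℕ :=
  Nat.rec piP0 (fun i1 _ => Nat.rec piP1 (fun i2 _ => Nat.rec piP2 (fun i3 _ =>
    Nat.rec piP3 (fun i4 _ => Nat.rec piP4 (fun _ _ => piP5) i4) i3) i2) i1) i

/-- a bit of a number. -/
def bitN (M j : ℕ) : ℕ := Nat.land (Nat.shiftRight M j) 1

theorem bitN_eq (M j : ℕ) : bitN M j = (M.testBit j).toNat := by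
  change (M >>> j) &&& 1 = _
  rw [Nat.and_one_is_mod, Nat.shiftRight_eq_div_pow, Nat.toNat_testBit]

theorem testBit_of_bitN {M M' j j' : ℕ} (h : bitN M j = bitN M' j') :
    M.testBit j = M'.testBit j' := by
  rw [bitN_eq, bitN_eq] at h
  cases h1 : M.testBit j <;> cases h2 : M'.testBit j' <;> rw [h1, h2] at h <;> simp at h

/-- the check that a generator and a matrix permute the sets in the same way. -/
def compatChk (Y i : ℕ) : Bool :=
  sapp (fun pi => allB (fun x => sapp (fun yx => sapp (fun yn =>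
    allB (fun j => Nat.beq (bitN yn (lk7 pi j)) (bitN yx j)) 85) (lkY Y (nTab i x))) (lkY Y x)) nP)
    (selPi i)

set_option maxRecDepth 1000000 in
theorem compat_ok_b :
    allB (fun i => andB (compatChk maskYP i) (compatChk maskZP i)) 6 = true := by
  decide +kernel

theorem compat_spec {i : ℕ} (hi : i < 6) {x : ℕ} (hx : x < nP) {j : ℕ} (hj : j < 85) :
    bitN (lkY maskYP (nTab i x)) (lk7 (selPi i) j) = bitN (lkY maskYP x) j ∧
      bitN (lkY maskZP (nTab i x)) (lk7 (selPi i) j) = bitN (lkY maskZP x) j := by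
  have h := andB_true (allB_true compat_ok_b hi)
  have h1 := h.1
  have h2 := h.2
  unfold compatChk at h1 h2
  rw [sapp_eq] at h1 h2
  have h3 := allB_true h1 hx
  have h4 := allB_true h2 hx
  rw [sapp_eq, sapp_eq] at h3 h4
  exact ⟨Nat.eq_of_beq_eq_true (allB_true h3 hj), Nat.eq_of_beq_eq_true (allB_true h4 hj)⟩

theorem pi_ok : ∀ i : Fin 6, ∀ j : Fin 85,
    lk7 (selPi i.val) j.val = (gPis.getD i.val []).getD j.val 0 := by
  decide +kernel

/-! ### the sets are different -/

theorem lt_of_step {f : ℕ → ℕ} {m : ℕ} (h : ∀ j, j + 1 < m → f j < f (j + 1)) :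
    ∀ j i : ℕ, i < j → j < m → f i < f j := by
  intro j
  induction j with
  | zero => intro i hi; omega
  | succ j ih =>
    intro i hi hj
    have hstep : f j < f (j + 1) := h j hj
    rcases Nat.lt_succ_iff_lt_or_eq.1 hi with hlt | heq
    · exact lt_trans (ih i hlt (by omega)) hstep
    · rw [heq]
      exact hstep

theorem inj_of_step {f : ℕ → ℕ} {m : ℕ} (h : ∀ j, j + 1 < m → f j < f (j + 1))
    {i j : ℕ} (hi : i < m) (hj : j < m) (hij : f i = f j) : i = j := by
  rcases Nat.lt_trichotomy i j with hlt | heq | hgt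
  · have := lt_of_step h j i hlt hj
    omega
  · exact heq
  · have := lt_of_step h i j hgt hi
    omega

set_option maxRecDepth 1000000 in
theorem ord_ok_b : andB (allB (fun v => andB (Nat.ble (lk12 posP v) 2057)
      (Nat.beq (lk12 ordP (lk12 posP v)) v)) nP)
    (allB (fun j => Nat.ble (Nat.succ (sapp (lkY maskYP) (lk12 ordP j)))
      (sapp (lkY maskYP) (lk12 ordP (Nat.succ j)))) 2057) = true := by
  decide +kernel

theorem ord_step (j : ℕ) (h : j + 1 < nP) :
    lkY maskYP (lk12 ordP j) < lkY maskYP (lk12 ordP (j + 1)) := by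
  have h1 := allB_true (andB_true ord_ok_b).2 (show j < 2057 by unfold nP at h; omega)
  rw [sapp_eq, sapp_eq] at h1
  exact Nat.lt_of_succ_le (Nat.le_of_ble_eq_true h1)

/-- different points have different sets. -/
theorem Y_inj {v w : ℕ} (hv : v < nP) (hw : w < nP) (h : lkY maskYP v = lkY maskYP w) : v = w := by
  have hv' := andB_true (allB_true (andB_true ord_ok_b).1 hv)
  have hw' := andB_true (allB_true (andB_true ord_ok_b).1 hw)
  have hv1 : lk12 posP v < nP := Nat.lt_succ_of_le (Nat.le_of_ble_eq_true hv'.1)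
  have hw1 : lk12 posP w < nP := Nat.lt_succ_of_le (Nat.le_of_ble_eq_true hw'.1)
  have hv2 : lk12 ordP (lk12 posP v) = v := Nat.eq_of_beq_eq_true hv'.2
  have hw2 : lk12 ordP (lk12 posP w) = w := Nat.eq_of_beq_eq_true hw'.2
  have e : lk12 posP v = lk12 posP w := by
    apply inj_of_step (f := fun j => lkY maskYP (lk12 ordP j)) ord_step hv1 hw1
    rw [hv2, hw2, h]
  rw [← hv2, ← hw2, e]

/-! ### every point is attached to a flag -/

set_option maxRecDepth 1000000 in
theorem flag_ok_b : allB (fun j => andB (Nat.ble (lk12 flagP j) 2057)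
    (Nat.beq (sapp (lkY maskZP) (lk12 flagP j)) (Nat.shiftLeft 1 j))) 85 = true := by
  decide +kernel

theorem flag_spec {j : ℕ} (hj : j < 85) : lk12 flagP j < nP ∧ lkY maskZP (lk12 flagP j) = 1 <<< j := by
  have h := andB_true (allB_true flag_ok_b hj)
  have h2 := h.2
  rw [sapp_eq] at h2
  exact ⟨Nat.lt_succ_of_le (Nat.le_of_ble_eq_true h.1), Nat.eq_of_beq_eq_true h2⟩

end Cfsg.Agent.Helper9.He
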