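import Mathlib
import Cfsg.Agent.Helper9.He.Compat

set_option autoImplicit false

/-!
The subgroup generated by `a, c, d, e, f, (bcde)^7` in the group on 2058 points is isomorphic to
the symplectic group of degree four over the field with four elements.
-/

namespace Cfsg.Agent.Helper9.He

open Cfsg.Agent.Helper9.J3 Cfsg.Agent.Helper9.J3C Cfsg.Agent.Helper9.J3C.F4 Matrix
open Cfsg.Agent.Helper7.Symp

/-- a subgroup of a product whose two projections are injective and onto generating sets is the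
graph of an isomorphism. -/
theorem iso_of_graph2 {H T : Type*} [Group H] [Group T] (R : Subgroup (H × T))
    (h1 : ∀ t : T, ((1 : H), t) ∈ R → t = 1) (h2 : ∀ h : H, (h, (1 : T)) ∈ R → h = 1)
    (SH : Set H) (hSH : Subgroup.closure SH = ⊤) (h3 : ∀ s ∈ SH, ∃ t : T, (s, t) ∈ R)
    (ST : Set T) (hST : Subgroup.closure ST = ⊤) (h4 : ∀ t ∈ ST, ∃ s : H, (s, t) ∈ R) :
    Nonempty (H ≃* T) := by
  let pH : R →* H := (MonoidHom.fst H T).comp R.subtype
  let pT : R →* T := (MonoidHom.snd H T).comp R.subtype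
  have hHinj : Function.Injective pH := by
    rw [injective_iff_map_eq_one]
    rintro ⟨⟨h, t⟩, hr⟩ he
    change h = 1 at he
    subst he
    have := h1 t hr
    subst this
    rfl
  have hTinj : Function.Injective pT := by
    rw [injective_iff_map_eq_one]
    rintro ⟨⟨h, t⟩, hr⟩ he
    change t = 1 at he
    subst he
    have := h2 h hr
    subst this
    rfl
  have hHsurj : Function.Surjective pH := by
    rw [← MonoidHom.range_eq_top, eq_top_iff, ← hSH, Subgroup.closure_le]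
    intro s hs
    obtain ⟨t, ht⟩ := h3 s hs
    exact ⟨⟨(s, t), ht⟩, rfl⟩
  have hTsurj : Function.Surjective pT := by
    rw [← MonoidHom.range_eq_top, eq_top_iff, ← hST, Subgroup.closure_le]
    intro t ht
    obtain ⟨s, hs⟩ := h4 t ht
    exact ⟨⟨(s, t), hs⟩, rfl⟩
  exact ⟨(MulEquiv.ofBijective pH ⟨hHinj, hHsurj⟩).symm.trans
    (MulEquiv.ofBijective pT ⟨hTinj, hTsurj⟩)⟩

/-- the bit of a vector in the set of a point. -/
def bY (Y : ℕ) (x : Fin nP) (v : V) : ℕ := bitN (lkY Y x.val) (pnum v)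

/-- a permutation and a matrix that permute the sets of a table in the same way. -/
def Inv (Y : ℕ) (h : Equiv.Perm (Fin nP)) (m : Sp) : Prop :=
  ∀ (x : Fin nP) (v : V), v ≠ 0 → bY Y x v = bY Y (h x) ((m : Matrix I4 I4 F) *ᵥ v)

theorem inv_one (Y : ℕ) : Inv Y 1 1 := by
  intro x v _
  change _ = bY Y x ((1 : Matrix I4 I4 F) *ᵥ v)
  rw [Matrix.one_mulVec]

theorem inv_mul {Y : ℕ} {h h' : Equiv.Perm (Fin nP)} {m m' : Sp} (H : Inv Y h m)
    (H' : Inv Y h' m') : Inv Y (h * h') (m * m') := by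
  intro x v hv
  rw [coe_mul_mulVec, H' x v hv, H (h' x) _ (mulVec_ne_zero m' hv)]
  rfl

theorem inv_inv {Y : ℕ} {h : Equiv.Perm (Fin nP)} {m : Sp} (H : Inv Y h m) : Inv Y h⁻¹ m⁻¹ := by
  intro x v hv
  have := H (h⁻¹ x) (((m⁻¹ : Sp) : Matrix I4 I4 F) *ᵥ v) (mulVec_ne_zero m⁻¹ hv)
  have e : h (h⁻¹ x) = x := by simp
  rw [mulVec_inv_mulVec, e] at this
  exact this.symm

/-- the pairs of a permutation and a matrix that permute the sets in the same way. -/
def RHe : Subgroup (Equiv.Perm (Fin nP) × Sp) where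
  carrier := {p | Inv maskYP p.1 p.2 ∧ Inv maskZP p.1 p.2}
  one_mem' := ⟨inv_one _, inv_one _⟩
  mul_mem' := fun ha hb => ⟨inv_mul ha.1 hb.1, inv_mul ha.2 hb.2⟩
  inv_mem' := fun ha => ⟨inv_inv ha.1, inv_inv ha.2⟩

theorem mem_RHe (h : Equiv.Perm (Fin nP)) (m : Sp) :
    (h, m) ∈ RHe ↔ Inv maskYP h m ∧ Inv maskZP h m := Iff.rfl

/-- the generators are in the relation. -/
theorem gen_mem_RHe (i : Fin 6) : (nG i.val, gSp i.val) ∈ RHe := by
  have key : ∀ (x : Fin nP) (v : V), v ≠ 0 →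
      bY maskYP x v = bY maskYP (nG i.val x) ((gSp i.val : Matrix I4 I4 F) *ᵥ v) ∧
      bY maskZP x v = bY maskZP (nG i.val x) ((gSp i.val : Matrix I4 I4 F) *ᵥ v) := by
    intro x v hv
    have hv' := hv
    rw [vec4_eta v] at hv'
    obtain ⟨h1, -⟩ := gMat_pnum i _ _ _ _ (vec4_ne_zero hv')
    rw [gSp_coe i.isLt, mulVec_eq_act4]
    unfold bY
    rw [h1, nG_apply i x]
    have hlt : pnum v < 85 := pnum_lt hv
    have h2 := pi_ok i ⟨pnum v, hlt⟩
    change lk7 (selPi i.val) (pnum v) = (gPis.getD i.val []).getD (pnum v) 0 at h2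
    have h3 : pn (cd (v (Sum.inl 0))) (cd (v (Sum.inl 1))) (cd (v (Sum.inr 0)))
        (cd (v (Sum.inr 1))) = pnum v := rfl
    rw [h3, ← h2]
    obtain ⟨h4, h5⟩ := compat_spec i.isLt x.isLt hlt
    exact ⟨h4.symm, h5.symm⟩
  exact ⟨fun x v hv => (key x v hv).1, fun x v hv => (key x v hv).2⟩

theorem bitN_shiftLeft {j k : ℕ} (h : bitN (1 <<< j) k = 1) : k = j := by
  rw [bitN_eq, Nat.one_shiftLeft, Nat.testBit_two_pow] at h
  by_contra hne
  rw [decide_eq_false (fun e => hne e.symm)] at h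
  simp at h

/-- a matrix related to the identity permutation is the identity. -/
theorem RHe_fst (m : Sp) (h : ((1 : Equiv.Perm (Fin nP)), m) ∈ RHe) : m = 1 := by
  apply eq_one_of_pnum
  intro v hv
  have hlt : pnum v < 85 := pnum_lt hv
  obtain ⟨h1, h2⟩ := flag_spec hlt
  have h3 := h.2 ⟨lk12 flagP (pnum v), h1⟩ v hv
  unfold bY at h3
  change bitN (lkY maskZP (lk12 flagP (pnum v))) (pnum v) =
    bitN (lkY maskZP (lk12 flagP (pnum v))) (pnum ((m : Matrix I4 I4 F) *ᵥ v)) at h3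
  rw [h2] at h3
  have h4 : bitN (1 <<< pnum v) (pnum v) = 1 := by
    rw [bitN_eq, Nat.one_shiftLeft, Nat.testBit_two_pow_self]
    rfl
  rw [h4] at h3
  exact bitN_shiftLeft h3.symm

/-- a permutation related to the identity matrix is the identity. -/
theorem RHe_snd (h : Equiv.Perm (Fin nP)) (hh : (h, (1 : Sp)) ∈ RHe) : h = 1 := by
  ext x
  change (h x).val = x.val
  symm
  apply Y_inj x.isLt (h x).isLt
  apply Nat.eq_of_testBit_eq
  intro j
  rcases Nat.lt_or_ge j 85 with hj | hj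
  · obtain ⟨e1, e2⟩ := pnum_rep ⟨j, hj⟩
    have h1 := hh.1 x (rep j) e2
    unfold bY at h1
    change _ = bitN _ (pnum ((1 : Matrix I4 I4 F) *ᵥ rep j)) at h1
    rw [Matrix.one_mulVec] at h1
    change pnum (rep j) = j at e1
    rw [e1] at h1
    exact testBit_of_bitN h1
  · have hp : 2 ^ 85 ≤ 2 ^ j := Nat.pow_le_pow_right (by norm_num) hj
    rw [Nat.testBit_lt_two_pow (lt_of_lt_of_le (lkY_lt _ _) hp),
      Nat.testBit_lt_two_pow (lt_of_lt_of_le (lkY_lt _ _) hp)]

/-- the subgroup generated by `a, c, d, e, f, (bcde)^7`. -/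
def N2 : Subgroup (Equiv.Perm (Fin nP)) := Subgroup.closure (Set.range fun i : Fin 6 => nG i.val)

theorem N2_le : N2 ≤ HeP := by
  unfold N2
  rw [Subgroup.closure_le]
  rintro _ ⟨i, rfl⟩
  exact nG_mem i

/-- the subgroup is isomorphic to the symplectic group. -/
theorem N2_iso : Nonempty (↥N2 ≃* Sp) := by
  let R' : Subgroup (↥N2 × Sp) := RHe.comap (MonoidHom.prodMap N2.subtype (MonoidHom.id Sp))
  have hgen : ∀ i : Fin 6, nG i.val ∈ N2 := fun i => Subgroup.subset_closure ⟨i, rfl⟩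
  apply iso_of_graph2 R' ?_ ?_
    (((↑) : ↥N2 → Equiv.Perm (Fin nP)) ⁻¹' (Set.range fun i : Fin 6 => nG i.val))
    Subgroup.closure_closure_coe_preimage ?_
    (Set.range fun i : Fin 6 => gSp i.val) C6_eq_top ?_
  · intro t ht
    exact RHe_fst t ht
  · intro h hh
    apply Subtype.ext
    exact RHe_snd h.1 hh
  · rintro ⟨s, hs⟩ ⟨i, hi⟩
    refine ⟨gSp i.val, ?_⟩
    change (s, gSp i.val) ∈ RHe
    change nG i.val = s at hi
    rw [← hi]
    exact gen_mem_RHe i
  · rintro _ ⟨i, rfl⟩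
    exact ⟨⟨nG i.val, hgen i⟩, gen_mem_RHe i⟩

theorem card_N2 : Nat.card ↥N2 = 979200 := by
  obtain ⟨e⟩ := N2_iso
  rw [Nat.card_congr e.toEquiv, card_Sp]

end Cfsg.Agent.Helper9.He
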