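import Mathlib
import Cfsg.Prelude
import Cfsg.Agent.Helper9.He.Main

set_option autoImplicit false

/-!
The group on 2058 points is transitive; the subgroup isomorphic to the symplectic group has index
two in the stabiliser of a point.
-/

namespace Cfsg.Agent.Helper9.He

open Cfsg.Agent.Helper9.J3 Cfsg.Agent.Helper9.PChain Cfsg Cfsg.Spor MulAction

/-- an entry of a table of entries of 3 bits. -/
def lk3 (T i : ℕ) : ℕ := lkF 3 7 T i

set_option maxRecDepth 1000000 in
theorem par_ok_b : allB (fun x => ifz x true (andB (Nat.ble (lk3 parP x) 6)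
    (Nat.ble (Nat.succ (tabF (lk3 parP x) x)) x))) nP = true := by decide +kernel

theorem exists_mem_HeP (x : ℕ) (hx : x < nP) : ∃ g ∈ HeP, g (0 : Fin nP) = ⟨x, hx⟩ := by
  induction x using Nat.strong_induction_on with
  | _ x ih =>
    rcases Nat.eq_zero_or_pos x with rfl | hpos
    · exact ⟨1, HeP.one_mem, rfl⟩
    · have h := allB_true par_ok_b hx
      rw [ifz_pos (Nat.pos_iff_ne_zero.1 hpos)] at h
      obtain ⟨h1, h2⟩ := andB_true h
      have hl : lk3 parP x < 7 := Nat.lt_succ_of_le (Nat.le_of_ble_eq_true h1)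
      have hy : tabF (lk3 parP x) x < x := Nat.lt_of_succ_le (Nat.le_of_ble_eq_true h2)
      obtain ⟨g, hg, e⟩ := ih _ hy (lt_trans hy hx)
      refine ⟨P (lk3 parP x) * g, HeP.mul_mem (P_mem _) hg, ?_⟩
      apply Fin.ext
      change (P (lk3 parP x) (g 0)).val = x
      rw [e, P_apply, tab_of_lt hl]
      exact (tab_ok _ x hl hx).2

instance pretransitive : IsPretransitive ↥HeP (Fin nP) := by
  constructor
  intro x y
  obtain ⟨gx, hgx, ex⟩ := exists_mem_HeP x.val x.isLt
  obtain ⟨gy, hgy, ey⟩ := exists_mem_HeP y.val y.isLt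
  refine ⟨⟨gy * gx⁻¹, HeP.mul_mem hgy (HeP.inv_mem hgx)⟩, ?_⟩
  change gy (gx⁻¹ x) = y
  have : gx⁻¹ x = 0 := by
    rw [Equiv.Perm.inv_eq_iff_eq]
    exact ex.symm
  rw [this, ey]

theorem card_stab (h : IsHe He) : Nat.card (stabilizer ↥HeP (0 : Fin nP)) = 1958400 := by
  have h1 : (stabilizer ↥HeP (0 : Fin nP)).index = (orbit ↥HeP (0 : Fin nP)).ncard :=
    index_stabilizer ↥HeP (0 : Fin nP)
  have h2 : orbit ↥HeP (0 : Fin nP) = Set.univ := orbit_eq_univ ↥HeP (0 : Fin nP)
  rw [h2, Set.ncard_univ, Nat.card_eq_fintype_card, Fintype.card_fin] at h1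
  have h3 := Subgroup.index_mul_card (stabilizer ↥HeP (0 : Fin nP))
  rw [h1, (isHe_HeP h).2] at h3
  have h4 : 2058 * Nat.card (stabilizer ↥HeP (0 : Fin nP)) = 4030387200 := h3
  omega

theorem nTab_zero : ∀ i : Fin 6, nTab i.val 0 = 0 := by decide +kernel

theorem N2_fix : ∀ g ∈ N2, g (0 : Fin nP) = 0 := by
  intro g hg
  have hle : N2 ≤ stabilizer (Equiv.Perm (Fin nP)) (0 : Fin nP) := by
    unfold N2
    rw [Subgroup.closure_le]
    rintro _ ⟨i, rfl⟩
    rw [SetLike.mem_coe, mem_stabilizer_iff]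
    apply Fin.ext
    change (nG i.val 0).val = 0
    rw [nG_apply i 0]
    exact nTab_zero i
  exact mem_stabilizer_iff.1 (hle hg)

theorem subgroupOf_le_stab : N2.subgroupOf HeP ≤ stabilizer ↥HeP (0 : Fin nP) := by
  intro g hg
  rw [mem_stabilizer_iff]
  exact N2_fix g.1 (Subgroup.mem_subgroupOf.1 hg)

/-- the subgroup of the stabiliser of a point. -/
def NS : Subgroup ↥(stabilizer ↥HeP (0 : Fin nP)) :=
  (N2.subgroupOf HeP).subgroupOf (stabilizer ↥HeP (0 : Fin nP))

/-- it is isomorphic to the symplectic group. -/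
theorem NS_iso : Nonempty (↥NS ≃* Matrix.symplecticGroup (Fin 2) F) := by
  obtain ⟨e⟩ := N2_iso
  exact ⟨((Subgroup.subgroupOfEquivOfLe subgroupOf_le_stab).trans
    (Subgroup.subgroupOfEquivOfLe N2_le)).trans e⟩

theorem card_NS : Nat.card ↥NS = 979200 := by
  obtain ⟨e⟩ := NS_iso
  rw [Nat.card_congr e.toEquiv]
  exact card_Sp

theorem index_NS (h : IsHe He) : NS.index = 2 := by
  have h1 := Subgroup.index_mul_card NS
  rw [card_NS, card_stab h] at h1
  have h2 : NS.index * 979200 = 2 * 979200 := h1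
  exact Nat.eq_of_mul_eq_mul_right (by norm_num) h2

/-- the Held group on 2058 points, given that the presented group is simple of its order. -/
theorem main (h : IsHe He) : ∃ H : Subgroup (Equiv.Perm (Fin 2058)), Cfsg.IsHe H ∧
    MulAction.IsPretransitive H (Fin 2058) ∧ ∃ (F : Type) (_ : Field F) (_ : Fintype F),
    Fintype.card F = 4 ∧ ∃ N : Subgroup (MulAction.stabilizer H (0 : Fin 2058)), N.index = 2 ∧
      Nonempty (N ≃* Matrix.symplecticGroup (Fin 2) F) :=
  ⟨HeP, isHe_HeP h, pretransitive, F, inferInstance, inferInstance, Cfsg.Agent.Helper9.J3C.F4.card_eq,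
    NS, index_NS h, NS_iso⟩

end Cfsg.Agent.Helper9.He
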