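import Mathlib
import Cfsg.Prelude
import Cfsg.Agent.Helper9.He.Final

set_option autoImplicit false

/-!
In the presented Held group, the subgroup generated by `a, c, d, e, f, (ab)^2, (bcde)^7` has a
normal subgroup of index two isomorphic to the symplectic group of degree four over the field with
four elements (given that the presented group is simple of its order).
-/

namespace Cfsg.Agent.Helper9.He

open Cfsg.Agent.Helper9.J3 Cfsg.Agent.Helper9.J3C Cfsg.Agent.Helper9.J3C.F4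
open Cfsg.Agent.Helper9.PChain Cfsg Cfsg.Spor MulAction Matrix

/-- the element `(ab)^2`. -/
def tP : Equiv.Perm (Fin nP) := (P 0 * P 1) ^ 2

theorem tP_eq : tP = permW [0, 1, 0, 1] := by
  unfold tP permW
  simp [pow_succ, mul_assoc]

theorem PL_eq : PL = (P 1 * P 2 * P 3 * P 4) ^ 7 := by
  unfold PL permW wordL
  simp [pow_succ, mul_assoc]

/-- six flags and their images under `(ab)^2`. -/
def flagsT : List (ℕ × ℕ × ℕ × ℕ) :=
  [(22, 21, 22, 21), (23, 5, 41, 0), (11, 1, 11, 1), (41, 0, 23, 5), (484, 42, 486, 80),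
    (535, 53, 523, 23)]

theorem flagsT_ok : flagsT.all (fun q => q.1 < nP ∧ q.2.2.1 < nP ∧
    lkY maskZP q.1 = 1 <<< q.2.1 ∧ evalF [0, 1, 0, 1] q.1 = q.2.2.1 ∧
    lkY maskZP q.2.2.1 = 1 <<< q.2.2.2) = true := by
  decide +kernel

/-- the six vectors. -/
def vecsT : List V := [vec4 1 0 0 0, vec4 0 1 0 0, vec4 0 0 1 0, vec4 0 0 0 1, vec4 1 1 1 1,
  vec4 1 w 0 0]

theorem vecsT_ok : ∀ k : Fin 6, (vecsT.getD k.val 0) ≠ 0 ∧
    pnum (vecsT.getD k.val 0) = (flagsT.getD k.val (0, 0, 0, 0)).2.1 ∧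
    (flagsT.getD k.val (0, 0, 0, 0)).2.2.2 < 85 := by
  decide +kernel

/-- a matrix related to `(ab)^2` carries the point of each of the six vectors to a known point. -/
theorem tP_images {m : Sp} (h : (tP, m) ∈ RHe) (k : Fin 6) :
    ∃ c : F, (m : Matrix I4 I4 F) *ᵥ (vecsT.getD k.val 0) =
      c • rep (flagsT.getD k.val (0, 0, 0, 0)).2.2.2 := by
  obtain ⟨hv, hp, hlt⟩ := vecsT_ok k
  have hq : flagsT.getD k.val (0, 0, 0, 0) ∈ flagsT := by
    revert k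
    decide
  have h1 := List.all_eq_true.1 flagsT_ok _ hq
  generalize flagsT.getD k.val (0, 0, 0, 0) = q at hp hlt h1
  obtain ⟨x, j, y, j'⟩ := q
  simp only [decide_eq_true_eq] at h1
  obtain ⟨hx, hy, e1, e2, e3⟩ := h1
  change pnum _ = j at hp
  change j' < 85 at hlt
  have h2 := h.2 ⟨x, hx⟩ _ hv
  have hty : (tP ⟨x, hx⟩).val = y := by
    rw [tP_eq, permW_apply, ← evalF_eq _ (by decide)]
    exact e2
  unfold bY at h2
  rw [hty] at h2
  change bitN (lkY maskZP x) _ = bitN (lkY maskZP y) _ at h2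
  rw [e1, e3, hp] at h2
  have h4 : bitN (1 <<< j) j = 1 := by
    rw [bitN_eq, Nat.one_shiftLeft, Nat.testBit_two_pow_self]
    rfl
  rw [h4] at h2
  have h5 := bitN_shiftLeft h2.symm
  obtain ⟨e4, e5⟩ := pnum_rep ⟨j', hlt⟩
  exact smul_of_pnum_eq (mulVec_ne_zero m hv) e5 (h5.trans e4.symm)

theorem no_scalars : ∀ c1 c2 c3 c4 c5 c6 : F, c5 ≠ 0 →
    ¬ (c5 • rep 80 = c1 • rep 21 + c2 • rep 0 + c3 • rep 1 + c4 • rep 5 ∧
      c6 • rep 23 = c1 • rep 21 + w • (c2 • rep 0)) := by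
  decide +kernel

/-- `(ab)^2` is related to no matrix. -/
theorem tP_not_rel (m : Sp) : (tP, m) ∉ RHe := by
  intro h
  obtain ⟨c1, h1⟩ := tP_images h 0
  obtain ⟨c2, h2⟩ := tP_images h 1
  obtain ⟨c3, h3⟩ := tP_images h 2
  obtain ⟨c4, h4⟩ := tP_images h 3
  obtain ⟨c5, h5⟩ := tP_images h 4
  obtain ⟨c6, h6⟩ := tP_images h 5
  change (m : Matrix I4 I4 F) *ᵥ vec4 1 0 0 0 = c1 • rep 21 at h1
  change (m : Matrix I4 I4 F) *ᵥ vec4 0 1 0 0 = c2 • rep 0 at h2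
  change (m : Matrix I4 I4 F) *ᵥ vec4 0 0 1 0 = c3 • rep 1 at h3
  change (m : Matrix I4 I4 F) *ᵥ vec4 0 0 0 1 = c4 • rep 5 at h4
  change (m : Matrix I4 I4 F) *ᵥ vec4 1 1 1 1 = c5 • rep 80 at h5
  change (m : Matrix I4 I4 F) *ᵥ vec4 1 w 0 0 = c6 • rep 23 at h6
  have e5 : (vec4 1 1 1 1 : V) = vec4 1 0 0 0 + vec4 0 1 0 0 + vec4 0 0 1 0 + vec4 0 0 0 1 := by
    decide
  have e6 : (vec4 1 w 0 0 : V) = vec4 1 0 0 0 + w • vec4 0 1 0 0 := by decide
  rw [e5, Matrix.mulVec_add, Matrix.mulVec_add, Matrix.mulVec_add, h1, h2, h3, h4] at h5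
  rw [e6, Matrix.mulVec_add, Matrix.mulVec_smul, h1, h2] at h6
  have hc5 : c5 ≠ 0 := by
    rintro rfl
    have hne : (vec4 1 1 1 1 : V) ≠ 0 := by decide
    have := mulVec_ne_zero m hne
    rw [e5, Matrix.mulVec_add, Matrix.mulVec_add, Matrix.mulVec_add, h1, h2, h3, h4, h5,
      zero_smul] at this
    exact this rfl
  exact no_scalars c1 c2 c3 c4 c5 c6 hc5 ⟨h5.symm, h6.symm⟩

/-- every element of the subgroup is related to a matrix. -/
theorem exists_rel {g : Equiv.Perm (Fin nP)} (hg : g ∈ N2) : ∃ m : Sp, (g, m) ∈ RHe := by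
  unfold N2 at hg
  induction hg using Subgroup.closure_induction with
  | mem x hx =>
    obtain ⟨i, rfl⟩ := hx
    exact ⟨gSp i.val, gen_mem_RHe i⟩
  | one => exact ⟨1, RHe.one_mem⟩
  | mul x y _ _ hx hy =>
    obtain ⟨m, hm⟩ := hx
    obtain ⟨m', hm'⟩ := hy
    exact ⟨m * m', RHe.mul_mem hm hm'⟩
  | inv x _ hx =>
    obtain ⟨m, hm⟩ := hx
    exact ⟨m⁻¹, RHe.inv_mem hm⟩

theorem tP_not_mem : tP ∉ N2 := fun h => by
  obtain ⟨m, hm⟩ := exists_rel h
  exact tP_not_rel m hm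

end Cfsg.Agent.Helper9.He
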