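import Mathlib
import Cfsg.Prelude
import Cfsg.Agent.Helper9.He.Sub

set_option autoImplicit false

/-!
The subgroup generated by `a, c, d, e, f, (ab)^2, (bcde)^7`: the symplectic group is normal of
index two in it.
-/

namespace Cfsg.Agent.Helper9.He

open Cfsg.Agent.Helper9.J3 Cfsg.Agent.Helper9.PChain Cfsg Cfsg.Spor MulAction

/-- the subgroup generated by `a, c, d, e, f, (ab)^2, (bcde)^7` in the group on 2058 points. -/
def S7 : Subgroup (Equiv.Perm (Fin nP)) :=
  Subgroup.closure {P 0, P 2, P 3, P 4, P 5, (P 0 * P 1) ^ 2, (P 1 * P 2 * P 3 * P 4) ^ 7}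

theorem N2_le_S7 : N2 ≤ S7 := by
  unfold N2
  rw [Subgroup.closure_le]
  rintro _ ⟨i, rfl⟩
  apply Subgroup.subset_closure
  fin_cases i
  · exact Or.inl rfl
  · exact Or.inr (Or.inl rfl)
  · exact Or.inr (Or.inr (Or.inl rfl))
  · exact Or.inr (Or.inr (Or.inr (Or.inl rfl)))
  · exact Or.inr (Or.inr (Or.inr (Or.inr (Or.inl rfl))))
  · exact Or.inr (Or.inr (Or.inr (Or.inr (Or.inr (Or.inr PL_eq)))))

theorem tP_mem_S7 : tP ∈ S7 :=
  Subgroup.subset_closure (Or.inr (Or.inr (Or.inr (Or.inr (Or.inr (Or.inl rfl))))))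

theorem tP_zero : tP (0 : Fin nP) = 0 := by
  apply Fin.ext
  rw [tP_eq, permW_apply, ← evalF_eq _ (by decide)]
  decide +kernel

/-- the stabiliser of the first point in the group on 2058 points, as a group of permutations. -/
def StP : Subgroup (Equiv.Perm (Fin nP)) := HeP ⊓ stabilizer (Equiv.Perm (Fin nP)) (0 : Fin nP)

theorem card_StP (h : IsHe He) : Nat.card ↥StP = 1958400 := by
  rw [← card_stab h]
  refine Nat.card_congr ⟨fun g => ⟨⟨g.1, g.2.1⟩, ?_⟩, fun g => ⟨g.1.1, ⟨g.1.2, ?_⟩⟩, ?_, ?_⟩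
  · rw [mem_stabilizer_iff]
    exact mem_stabilizer_iff.1 g.2.2
  · have := mem_stabilizer_iff.1 g.2
    change g.1.1 ∈ stabilizer (Equiv.Perm (Fin nP)) (0 : Fin nP)
    rw [mem_stabilizer_iff]
    exact this
  · intro g
    rfl
  · intro g
    rfl

theorem S7_le_StP : S7 ≤ StP := by
  unfold S7
  rw [Subgroup.closure_le]
  intro g hg
  have hN : ∀ i : Fin 6, nG i.val ∈ StP := fun i =>
    ⟨nG_mem i, mem_stabilizer_iff.2 (N2_fix _ (Subgroup.subset_closure ⟨i, rfl⟩))⟩
  rcases hg with rfl | rfl | rfl | rfl | rfl | rfl | hg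
  · exact hN 0
  · exact hN 1
  · exact hN 2
  · exact hN 3
  · exact hN 4
  · exact ⟨HeP.pow_mem (HeP.mul_mem (P_mem 0) (P_mem 1)) 2, mem_stabilizer_iff.2 tP_zero⟩
  · rw [Set.mem_singleton_iff] at hg
    rw [hg, ← PL_eq]
    exact hN 5

/-- the symplectic group has index two in the subgroup. -/
theorem index_N2_S7 (h : IsHe He) : (N2.subgroupOf S7).index = 2 := by
  have : Finite ↥StP := Nat.finite_of_card_ne_zero (by rw [card_StP h]; norm_num)
  have : Finite ↥S7 := Finite.of_injective (fun g : ↥S7 => (⟨g.1, S7_le_StP g.2⟩ : ↥StP))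
    (fun a b hab => Subtype.ext (congrArg (fun x : ↥StP => x.1) hab))
  have h1 := Subgroup.index_mul_card (N2.subgroupOf S7)
  have h2 : Nat.card ↥(N2.subgroupOf S7) = 979200 := by
    rw [Nat.card_congr (Subgroup.subgroupOfEquivOfLe N2_le_S7).toEquiv]
    exact card_N2
  rw [h2] at h1
  have h3 : Nat.card ↥S7 ∣ 1958400 := by
    rw [← card_StP h]
    exact Subgroup.card_dvd_of_le S7_le_StP
  rw [← h1] at h3
  have h4 : (N2.subgroupOf S7).index ∣ 2 := by
    have : (1958400 : ℕ) = 2 * 979200 := by norm_num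
    rw [this] at h3
    exact Nat.dvd_of_mul_dvd_mul_right (by norm_num) h3
  have h5 : (N2.subgroupOf S7).index ≠ 1 := by
    intro h5
    rw [Subgroup.index_eq_one, Subgroup.subgroupOf_eq_top] at h5
    exact tP_not_mem (h5 tP_mem_S7)
  rcases (Nat.dvd_prime Nat.prime_two).1 h4 with h6 | h6
  · exact absurd h6 h5
  · exact h6

end Cfsg.Agent.Helper9.He
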