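import Mathlib
import Cfsg.Prelude
import Cfsg.Agent.Helper9.He.Sub2

set_option autoImplicit false

/-!
In the presented Held group, the subgroup generated by `a, c, d, e, f, (ab)^2, (bcde)^7` has a
normal subgroup of index two isomorphic to the symplectic group of degree four over the field with
four elements (given that the presented group is simple of its order).
-/

namespace Cfsg.Agent.Helper9.He

open Cfsg.Agent.Helper9.J3 Cfsg.Agent.Helper9.PChain Cfsg Cfsg.Spor MulAction

/-- the relators of the presented group. -/
abbrev relsHe : Set (FreeGroup He.Gen) := coxRelators He.edges ∪ {r | r ∈ He.extra}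

/-- the subgroup of the presented group. -/
abbrev KS : Subgroup He :=
  (Subgroup.closure ({He.a, He.c, He.d, He.e, He.f, (He.a * He.b) ^ 2,
    (He.b * He.c * He.d * He.e) ^ 7} : Set (FreeGroup He.Gen))).map (PresentedGroup.mk relsHe)

theorem phi_mk (x : FreeGroup He.Gen) : phi (PresentedGroup.mk relsHe x) = FreeGroup.lift fGen x :=
  rfl

theorem map_KS : KS.map phi = S7 := by
  unfold KS S7
  rw [Subgroup.map_map, MonoidHom.map_closure]
  congr 1
  simp only [Set.image_insert_eq, Set.image_singleton, MonoidHom.comp_apply, phi_mk, map_pow,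
    map_mul, FreeGroup.lift_apply_of]
  rfl

/-- the subgroup of the presented group is isomorphic to the subgroup of the group on 2058
points. -/
noncomputable def eKS (hs : IsSimpleGroup He) : ↥KS ≃* ↥S7 :=
  (KS.equivMapOfInjective phi (phi_injective hs)).trans (MulEquiv.subgroupCongr map_KS)

theorem sub_main (h : IsHe He) : ∃ (N : Subgroup ↥KS) (K : Type) (_ : Field K) (_ : Fintype K),
    N.Normal ∧ N.index = 2 ∧ Fintype.card K = 4 ∧
      Nonempty (N ≃* Matrix.symplecticGroup (Fin 2) K) := by
  have hnorm : (N2.subgroupOf S7).Normal := Subgroup.normal_of_index_eq_two (index_N2_S7 h)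
  refine ⟨(N2.subgroupOf S7).comap (eKS h.1).toMonoidHom, F, inferInstance, inferInstance,
    hnorm.comap _, ?_, Cfsg.Agent.Helper9.J3C.F4.card_eq, ?_⟩
  · have := Subgroup.index_comap_of_surjective (N2.subgroupOf S7)
      (f := (eKS h.1).toMonoidHom) (eKS h.1).surjective
    rw [this]
    exact index_N2_S7 h
  · obtain ⟨e⟩ := N2_iso
    have hmap : ((N2.subgroupOf S7).comap (eKS h.1).toMonoidHom).map (eKS h.1).toMonoidHom =
        N2.subgroupOf S7 := Subgroup.map_comap_eq_self_of_surjective (eKS h.1).surjective _
    exact ⟨(((eKS h.1).subgroupMap _).trans (MulEquiv.subgroupCongr hmap)).trans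
      ((Subgroup.subgroupOfEquivOfLe N2_le_S7).trans e)⟩

end Cfsg.Agent.Helper9.He
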